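import Mathlib

/-!
The trace form of a finite local algebra over a field.
-/

set_option autoImplicit false
set_option linter.style.haveILetI false
set_option linter.unusedSectionVars false

universe u

open IsLocalRing

namespace Groth.Agent.DiscFam

theorem trace_add_of_exact {k N M Q : Type*} [Field k] [AddCommGroup N] [Module k N] [AddCommGroup M]
    [Module k M] [AddCommGroup Q] [Module k Q] [FiniteDimensional k N] [FiniteDimensional k M]
    [FiniteDimensional k Q] (i : N →ₗ[k] M) (p : M →ₗ[k] Q) (hi : Function.Injective i)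
    (hp : Function.Surjective p) (hex : Function.Exact i p) (f : M →ₗ[k] M) (f₁ : N →ₗ[k] N)
    (f₂ : Q →ₗ[k] Q) (h₁ : f ∘ₗ i = i ∘ₗ f₁) (h₂ : p ∘ₗ f = f₂ ∘ₗ p) :
    LinearMap.trace k M f = LinearMap.trace k N f₁ + LinearMap.trace k Q f₂ := by
  obtain ⟨s, hs⟩ := p.exists_rightInverse_of_surjective (LinearMap.range_eq_top.2 hp)
  have hmem : ∀ x, x - s (p x) ∈ LinearMap.range i := fun x => by
    rw [← LinearMap.exact_iff.1 hex, LinearMap.mem_ker, map_sub, ← LinearMap.comp_apply p s, hs,
      LinearMap.id_apply, sub_self]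
  let r : M →ₗ[k] N := (LinearEquiv.ofInjective i hi).symm.toLinearMap ∘ₗ
    (LinearMap.id - s ∘ₗ p).codRestrict _ hmem
  have hr : ∀ x, i (r x) = x - s (p x) := fun x => by
    show i ((LinearEquiv.ofInjective i hi).symm ⟨x - s (p x), hmem x⟩) = _
    rw [← LinearEquiv.ofInjective_apply (h := hi), LinearEquiv.apply_symm_apply]
  have hri : r ∘ₗ i = LinearMap.id := LinearMap.ext fun y => hi (by
    rw [LinearMap.comp_apply, hr, show p (i y) = 0 from hex.apply_apply_eq_zero y, map_zero, sub_zero]; rfl)
  have hf : f = (f ∘ₗ i) ∘ₗ r + (f ∘ₗ s) ∘ₗ p := LinearMap.ext fun x => by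
    simp [hr]
  calc LinearMap.trace k M f
      = LinearMap.trace k M ((f ∘ₗ i) ∘ₗ r) + LinearMap.trace k M ((f ∘ₗ s) ∘ₗ p) := by rw [← map_add, ← hf]
    _ = LinearMap.trace k N (r ∘ₗ f ∘ₗ i) + LinearMap.trace k Q (p ∘ₗ f ∘ₗ s) := by
        rw [LinearMap.trace_comp_comm' r (f ∘ₗ i), LinearMap.trace_comp_comm' p (f ∘ₗ s)]
    _ = _ := by
        congr 2
        · rw [h₁, ← LinearMap.comp_assoc, hri, LinearMap.id_comp]
        · rw [← LinearMap.comp_assoc, h₂, LinearMap.comp_assoc, hs, LinearMap.comp_id]

variable {k A : Type u} [Field k] [CommRing A] [Algebra k A] [FiniteDimensional k A] [IsLocalRing A]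

theorem trace_module : ∀ (d : ℕ) (M : Type u) [AddCommGroup M] [Module k M] [Module A M] [IsScalarTower k A M]
    [FiniteDimensional k M], Module.finrank k M = d → ∀ x : A,
      LinearMap.trace k M ((Algebra.lsmul k k M) x) =
        (Module.length A M).toNat • Algebra.trace k (ResidueField A) (residue A x) := by
  intro d
  induction d using Nat.strong_induction_on with
  | _ d ih =>
    intro M _ _ _ _ _ hd x
    rcases subsingleton_or_nontrivial M with hM | hM
    · rw [show (Algebra.lsmul k k M) x = 0 from Subsingleton.elim _ _, map_zero, Module.length_eq_zero]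
      simp
    haveI : IsArtinianRing A := isArtinian_of_tower k inferInstance
    haveI : Module.Finite A M := Module.Finite.of_restrictScalars_finite k A M
    haveI : IsArtinian A M := isArtinian_of_fg_of_artinian' (R := A) (M := M)
    obtain ⟨N, hN⟩ := IsAtomic.exists_atom (Submodule A M)
    haveI : IsSimpleModule A N := isSimpleModule_iff_isAtom.2 hN
    obtain ⟨I, hI, ⟨eN⟩⟩ := isSimpleModule_iff_quot_maximal.1 (inferInstance : IsSimpleModule A N)
    obtain rfl : I = maximalIdeal A := eq_maximalIdeal hI
    haveI : FiniteDimensional k N :=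
      inferInstanceAs (FiniteDimensional k (N.restrictScalars k))
    haveI : FiniteDimensional k (M ⧸ N) := Module.Finite.of_surjective (N.mkQ.restrictScalars k) N.mkQ_surjective
    have hlen : Module.length A M = 1 + Module.length A (M ⧸ N) := by
      rw [Module.length_eq_add_of_exact N.subtype N.mkQ N.subtype_injective N.mkQ_surjective
        (LinearMap.exact_subtype_mkQ N), Module.length_eq_one]
    have hfin : Module.length A (M ⧸ N) ≠ ⊤ := Module.length_ne_top
    have hlt : Module.finrank k (M ⧸ N) < d := by
      have h1 := Submodule.finrank_quotient_add_finrank (N.restrictScalars k)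
      have h2 : 0 < Module.finrank k (N.restrictScalars k) := by
        haveI : Nontrivial (N.restrictScalars k) := IsSimpleModule.nontrivial A N
        exact Module.finrank_pos
      have h3 : Module.finrank k (M ⧸ N) = Module.finrank k (M ⧸ N.restrictScalars k) :=
        ((Submodule.Quotient.restrictScalarsEquiv k N).finrank_eq).symm
      omega
    rw [trace_add_of_exact (N.subtype.restrictScalars k) (N.mkQ.restrictScalars k) N.subtype_injective
      N.mkQ_surjective (LinearMap.exact_subtype_mkQ N) _ ((Algebra.lsmul k k N) x)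
      ((Algebra.lsmul k k (M ⧸ N)) x) (by ext; simp) (by ext; simp)]
    rw [ih _ hlt (M ⧸ N) rfl x, hlen, ENat.toNat_add ENat.one_ne_top hfin, add_smul]
    congr 1
    rw [ENat.toNat_one, one_smul, Algebra.trace_apply]
    rw [← LinearMap.trace_conj' _ (eN.restrictScalars k)]
    congr 1
    apply LinearMap.ext
    intro y
    rw [LinearEquiv.conj_apply]
    obtain ⟨z, rfl⟩ := Ideal.Quotient.mk_surjective y
    show eN (x • eN.symm _) = _
    rw [map_smul, LinearEquiv.apply_symm_apply]
    rfl

theorem trace_eq_length_smul (x : A) :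
    Algebra.trace k A x = (Module.length A A).toNat • Algebra.trace k (ResidueField A) (residue A x) := by
  rw [← trace_module _ A rfl x, Algebra.trace_apply]
  rfl

theorem trace_ne_zero_iff :
    Algebra.trace k A ≠ 0 ↔ (Algebra.IsSeparable k (ResidueField A) ∧
        ∀ p : ℕ, p.Prime → CharP k p → ¬ p ∣ (Module.length A A).toNat) := by
  haveI : FiniteDimensional k (ResidueField A) :=
    Module.Finite.of_surjective (Ideal.Quotient.mkₐ k (maximalIdeal A)).toLinearMap Ideal.Quotient.mk_surjective
  set n := (Module.length A A).toNat with hn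
  have hn0 : n ≠ 0 := by
    haveI : IsArtinianRing A := isArtinian_of_tower k inferInstance
    rw [hn, ne_eq, ENat.toNat_eq_zero, not_or]
    exact ⟨(Module.length_pos (R := A) (M := A)).ne', Module.length_ne_top⟩
  have key : Algebra.trace k A ≠ 0 ↔ (n : k) ≠ 0 ∧ Algebra.trace k (ResidueField A) ≠ 0 := by
    constructor
    · intro h
      refine ⟨fun h0 => h (LinearMap.ext fun x => ?_), fun h0 => h (LinearMap.ext fun x => ?_)⟩
      · rw [trace_eq_length_smul, ← hn, nsmul_eq_mul, h0, zero_mul]; rfl
      · rw [trace_eq_length_smul, h0, LinearMap.zero_apply, smul_zero]; rfl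
    · rintro ⟨h1, h2⟩ h0
      apply h2
      refine LinearMap.ext fun y => ?_
      obtain ⟨x, rfl⟩ := residue_surjective y
      have := LinearMap.congr_fun h0 x
      rw [trace_eq_length_smul, ← hn, nsmul_eq_mul, LinearMap.zero_apply, mul_eq_zero] at this
      exact this.resolve_left h1
  rw [key, and_comm]
  refine and_congr ⟨fun h => ?_, fun h => Algebra.trace_ne_zero k (ResidueField A)⟩ ⟨fun h p _ hp hdvd => h ?_, fun h h0 => ?_⟩
  · by_contra hs
    exact h (Algebra.trace_eq_zero_of_not_isSeparable hs)
  · exact (CharP.cast_eq_zero_iff k p n).2 hdvd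
  · obtain ⟨p, hp⟩ := CharP.exists k
    rcases CharP.char_is_prime_or_zero k p with hpr | rfl
    · exact h p hpr hp ((CharP.cast_eq_zero_iff k p n).1 h0)
    · exact hn0 (Nat.eq_zero_of_zero_dvd ((CharP.cast_eq_zero_iff k 0 n).1 h0))

end Groth.Agent.DiscFam
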