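import Mathlib
import Groth.Agent.DiffLib.Basic
import Groth.Agent.S2196

/-!
The different of a finite free algebra cuts out the ramified primes.
-/

set_option autoImplicit false
set_option linter.style.haveILetI false
set_option linter.unusedSectionVars false

universe u v

open TensorProduct

namespace Groth.Agent.DiscFam

variable {A : Type u} {B : Type v} [CommRing A] [CommRing B] [Algebra A B]

/-- The Noether different of a finite free algebra lies in its different. -/
theorem noetherDifferent_subset_differentSet [Module.Finite A B] [Module.Free A B] :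
    (Disc.noetherDifferent A B : Set B) ⊆ Disc.differentSet A B := by
  classical
  let e := Module.Free.chooseBasis A B
  intro x hx φ
  rw [SetLike.mem_coe, Disc.noetherDifferent,
    Ideal.mem_map_iff_of_surjective _ (fun y => ⟨y ⊗ₜ 1, by simp⟩)] at hx
  obtain ⟨ξ, hξ, rfl⟩ := hx
  let l : Disc.Omega A B := ⟨φ⟩
  refine ⟨DiffLib.ev l ξ, fun y => ?_⟩
  have hc : ∀ c : B, DiffLib.ev l ξ * c = DiffLib.ev (c • l) ξ := fun c => by
    rw [mul_comm, DiffLib.mul_ev, ← (DiffLib.mem_annihilator_iff ξ).mp hξ c, ← DiffLib.ev_smul]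
  have hrhs : Algebra.trace A B (DiffLib.ev l ξ * y) = ∑ j, e.repr (DiffLib.ev ((y * e j) • l) ξ) j := by
    rw [Algebra.trace_eq_matrix_trace e, Matrix.trace]
    refine Finset.sum_congr rfl fun j _ => ?_
    rw [Matrix.diag_apply, Algebra.leftMulMatrix_eq_repr_mul, mul_assoc, hc]
  rw [hrhs]
  clear hξ hc hrhs
  induction ξ using TensorProduct.induction_on with
  | zero => simp
  | tmul a b =>
    calc φ (Algebra.TensorProduct.lmul' A (a ⊗ₜ[A] b) * y) = φ ((a * y) * ∑ j, e.repr b j • e j) := by
            rw [e.sum_repr, Algebra.TensorProduct.lmul'_apply_tmul]; congr 1; ring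
      _ = ∑ j, e.repr b j * φ ((y * e j) * a) := by
            rw [Finset.mul_sum, map_sum]
            refine Finset.sum_congr rfl fun j _ => ?_
            rw [mul_smul_comm, map_smul, smul_eq_mul]; congr 2; ring
      _ = _ := by
            refine Finset.sum_congr rfl fun j _ => ?_
            rw [DiffLib.ev_tmul, map_smul, Finsupp.smul_apply, smul_eq_mul,
              Disc.Omega.smul_toLinearMap_apply, mul_comm]
  | add s t hs ht =>
    simp only [map_add, add_mul, Finsupp.add_apply, Finset.sum_add_distrib, hs, ht]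

/-- An element of the different kills every nilpotent, after any base change. -/
theorem mul_eq_zero_of_mem_differentSet [Module.Finite A B] [Module.Free A B] {x : B}
    (hx : x ∈ Disc.differentSet A B) {K : Type*} [CommRing K] [IsReduced K] [Algebra A K]
    {n : K ⊗[A] B} (hn : IsNilpotent n) : ((1 : K) ⊗ₜ[A] x) * n = 0 := by
  classical
  let e := Module.Free.chooseBasis A B
  let E := e.baseChange K
  apply E.repr.injective
  rw [map_zero]
  ext i
  obtain ⟨c, hc⟩ := hx (e.coord i)
  have key : ∀ z : K ⊗[A] B, E.repr (((1 : K) ⊗ₜ[A] x) * z) i =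
      Algebra.trace K (K ⊗[A] B) (((1 : K) ⊗ₜ[A] c) * z) := by
    intro z
    induction z using TensorProduct.induction_on with
    | zero => simp
    | add s t hs ht => simp only [mul_add, map_add, Finsupp.add_apply, hs, ht]
    | tmul r y =>
      rw [Algebra.TensorProduct.tmul_mul_tmul, Algebra.TensorProduct.tmul_mul_tmul, one_mul,
        Module.Basis.baseChange_repr_tmul]
      have h1 : (r ⊗ₜ[A] (c * y) : K ⊗[A] B) = r • ((1 : K) ⊗ₜ[A] (c * y)) := by
        rw [TensorProduct.smul_tmul', smul_eq_mul, mul_one]
      have h2 : Algebra.trace K (K ⊗[A] B) ((1 : K) ⊗ₜ[A] (c * y)) = algebraMap A K (Algebra.trace A B (c * y)) := by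
        rw [Algebra.trace_apply, Algebra.trace_apply, ← LinearMap.trace_baseChange]
        congr 1
        ext w
        simp
      rw [h1, map_smul, h2, smul_eq_mul, ← hc y, Module.Basis.coord_apply, Algebra.smul_def, mul_comm]
  rw [key, Finsupp.zero_apply]
  exact (Algebra.isNilpotent_trace_of_isNilpotent ((Commute.all _ _).isNilpotent_mul_left hn)).eq_zero

/-- A derivation into a field at a prime not containing the different vanishes. -/
theorem derivation_eq_zero [Module.Finite A B] [Module.Free A B] {x : B} (hx : x ∈ Disc.differentSet A B)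
    {K : Type*} [Field K] [IsAlgClosed K] [Algebra A K] (ψ : B →ₐ[A] K) (hψ : ψ x ≠ 0)
    (d : B →ₗ[A] K) (hd : ∀ a b, d (a * b) = ψ a * d b + ψ b * d a) : d = 0 := by
  classical
  let Ψ : K ⊗[A] B →ₐ[K] K := Algebra.TensorProduct.lift (AlgHom.id K K) ψ fun _ _ => Commute.all _ _
  let D : K ⊗[A] B →ₗ[K] K := d.liftBaseChange K
  have hD : ∀ a b, D (a * b) = Ψ a * D b + Ψ b * D a := by
    intro a b
    induction a using TensorProduct.induction_on with
    | zero => simp
    | add s t hs ht => simp only [add_mul, map_add, mul_add, hs, ht]; ring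
    | tmul r a =>
      induction b using TensorProduct.induction_on with
      | zero => simp
      | add s t hs ht => simp only [mul_add, map_add, add_mul, hs, ht]; ring
      | tmul r' b =>
        simp [D, Ψ, LinearMap.liftBaseChange_tmul, hd]
        ring
  have hΨx : Ψ ((1 : K) ⊗ₜ[A] x) ≠ 0 := by simpa [Ψ] using hψ
  have hnil : ∀ n : K ⊗[A] B, IsNilpotent n → D n = 0 := fun n hn => by
    have h := hD ((1 : K) ⊗ₜ[A] x) n
    rw [mul_eq_zero_of_mem_differentSet hx hn, map_zero, (hn.map Ψ).eq_zero, zero_mul, add_zero] at h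
    exact (mul_eq_zero.1 h.symm).resolve_left hΨx
  let m : Ideal (K ⊗[A] B) := RingHom.ker Ψ
  haveI : m.IsPrime := RingHom.ker_isPrime _
  haveI : IsArtinianRing (K ⊗[A] B) := isArtinian_of_tower K inferInstance
  have hker : ∀ y ∈ m, D y = 0 := by
    intro y hy
    haveI : IsArtinianRing (Localization.AtPrime m) :=
      (IsArtinianRing.localization_surjective m.primeCompl _).isArtinianRing
    have hny : IsNilpotent (algebraMap (K ⊗[A] B) (Localization.AtPrime m) y) := by
      obtain ⟨N, hN⟩ := (IsArtinianRing.isNilpotent_jacobson_bot (R := Localization.AtPrime m))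
      refine ⟨N, ?_⟩
      rw [IsLocalRing.jacobson_eq_maximalIdeal ⊥ bot_ne_top] at hN
      have hmem := Ideal.pow_mem_pow
        ((IsLocalization.AtPrime.to_map_mem_maximal_iff (Localization.AtPrime m) m y).2 hy) N
      rw [hN] at hmem
      exact Ideal.mem_bot.1 hmem
    obtain ⟨N, hN⟩ := hny
    rw [← map_pow, IsLocalization.map_eq_zero_iff m.primeCompl] at hN
    obtain ⟨s, hs⟩ := hN
    have hsy : IsNilpotent ((s : K ⊗[A] B) * y) := ⟨N + 1, by
      rw [mul_pow, show (s : K ⊗[A] B) ^ (N + 1) * y ^ (N + 1) =
        (s : K ⊗[A] B) ^ N * y * ((s : K ⊗[A] B) * y ^ N) by ring, hs, mul_zero]⟩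
    have h := hD (s : K ⊗[A] B) y
    rw [hnil _ hsy, RingHom.mem_ker.1 hy, zero_mul, add_zero] at h
    exact (mul_eq_zero.1 h.symm).resolve_left fun hs0 => s.2 (RingHom.mem_ker.2 hs0)
  have h1 : D 1 = 0 := by
    have := hD 1 1
    simp only [mul_one, map_one, one_mul] at this
    simpa using this
  refine LinearMap.ext fun b => ?_
  have hy : ((1 : K) ⊗ₜ[A] b) - algebraMap K _ (ψ b) ∈ m := by
    rw [RingHom.mem_ker]
    simp [Ψ]
  have := hker _ hy
  rw [map_sub, Algebra.algebraMap_eq_smul_one (ψ b), map_smul, h1, smul_zero, sub_zero] at this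
  simpa [D] using this

theorem differentSet_subset_iff [IsNoetherianRing A] [Module.Finite A B] [Module.Free A B]
    (q : Ideal B) [q.IsPrime] :
    Disc.differentSet A B ⊆ q ↔ ¬Algebra.IsUnramifiedAt A q := by
  constructor
  · intro h hu
    have hnot : ¬ Disc.noetherDifferent A B ≤ q := fun hle => by
      have h' : (⟨q, inferInstance⟩ : PrimeSpectrum B) ∈ (Algebra.unramifiedLocus A B)ᶜ := by
        rw [← S2196.result]; exact hle
      exact h' hu
    exact hnot fun b hb => h (noetherDifferent_subset_differentSet hb)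
  · intro hnu x hx
    by_contra hxq
    apply hnu
    show (⟨q, inferInstance⟩ : PrimeSpectrum B) ∈ Algebra.unramifiedLocus A B
    rw [Algebra.unramifiedLocus_eq_compl_support, Set.mem_compl_iff,
      Module.mem_support_iff_nontrivial_residueField_tensorProduct, not_nontrivial_iff_subsingleton]
    refine subsingleton_of_forall_eq 0 fun z => ?_
    rw [← Module.forall_dual_apply_eq_zero_iff q.ResidueField]
    intro f
    suffices hf : f = 0 by rw [hf]; rfl
    let K := AlgebraicClosure q.ResidueField
    let ψ : B →ₐ[A] K := IsScalarTower.toAlgHom A B K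
    let d : B →ₗ[A] K :=
      (Algebra.linearMap q.ResidueField K).restrictScalars A ∘ₗ f.restrictScalars A ∘ₗ
        (TensorProduct.mk B q.ResidueField (Ω[B⁄A]) 1).restrictScalars A ∘ₗ (KaehlerDifferential.D A B).toLinearMap
    have hψ : ψ x ≠ 0 := by
      show algebraMap B K x ≠ 0
      rw [IsScalarTower.algebraMap_apply B q.ResidueField K, ne_eq, map_eq_zero,
        Ideal.algebraMap_residueField_eq_zero]
      exact hxq
    have hd : ∀ a b, d (a * b) = ψ a * d b + ψ b * d a := by
      intro a b
      have h3 : ∀ (r : B) (w : Ω[B⁄A]), f ((1 : q.ResidueField) ⊗ₜ[B] (r • w)) =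
          algebraMap B q.ResidueField r * f (1 ⊗ₜ[B] w) := fun r w => by
        rw [← TensorProduct.smul_tmul, ← algebraMap_smul q.ResidueField r (1 : q.ResidueField),
          ← TensorProduct.smul_tmul', map_smul, smul_eq_mul]
      show algebraMap q.ResidueField K (f (1 ⊗ₜ[B] KaehlerDifferential.D A B (a * b))) = _
      rw [Derivation.leibniz, TensorProduct.tmul_add, map_add, h3, h3, map_add, map_mul, map_mul]
      rfl
    have hd0 := derivation_eq_zero hx ψ hψ d hd
    apply TensorProduct.AlgebraTensorModule.ext
    intro r w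
    have hw : w ∈ Submodule.span B (Set.range (KaehlerDifferential.D A B)) := by
      rw [KaehlerDifferential.span_range_derivation]; trivial
    rw [LinearMap.zero_apply, show (r ⊗ₜ[B] w : q.ResidueField ⊗[B] Ω[B⁄A]) = r • (1 ⊗ₜ[B] w) by
      rw [TensorProduct.smul_tmul', smul_eq_mul, mul_one], map_smul]
    suffices f ((1 : q.ResidueField) ⊗ₜ[B] w) = 0 by rw [this, smul_zero]
    induction hw using Submodule.span_induction with
    | zero => simp
    | add s t _ _ hs ht => rw [TensorProduct.tmul_add, map_add, hs, ht, add_zero]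
    | smul s t _ ht =>
      rw [← TensorProduct.smul_tmul, ← algebraMap_smul q.ResidueField s (1 : q.ResidueField),
        ← TensorProduct.smul_tmul', map_smul, ht, smul_zero]
    | mem t ht =>
      obtain ⟨b, rfl⟩ := ht
      exact (map_eq_zero (algebraMap q.ResidueField K)).1 (LinearMap.congr_fun hd0 b)

end Groth.Agent.DiscFam
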