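import Mathlib

/-!
A finite subalgebra dominating two factorisations through open immersions.
-/

set_option autoImplicit false
set_option linter.style.haveILetI false
set_option linter.unusedSectionVars false

universe u

open AlgebraicGeometry CategoryTheory TensorProduct

namespace Groth.Agent.DiscFam

theorem flat_of_openImmersion {R S : Type u} [CommRing R] [CommRing S] [Algebra R S]
    (h : IsOpenImmersion (Spec.map (CommRingCat.ofHom (algebraMap R S)))) : Module.Flat R S :=
  RingHom.flat_algebraMap_iff.mp (Flat.SpecMap_iff.mp (inferInstance : Flat (Spec.map (CommRingCat.ofHom (algebraMap R S)))))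

theorem one_tmul_eq_tmul_one_of_openImmersion {R S : Type u} [CommRing R] [CommRing S] [Algebra R S]
    (h : IsOpenImmersion (Spec.map (CommRingCat.ofHom (algebraMap R S)))) (s : S) :
    (1 : S) ⊗ₜ[R] s = s ⊗ₜ[R] (1 : S) := by
  let g₁ : S →+* S ⊗[R] S := Algebra.TensorProduct.includeLeftRingHom
  let g₂ : S →+* S ⊗[R] S := (Algebra.TensorProduct.includeRight (R := R) (A := S)).toRingHom
  have hag : CommRingCat.ofHom (algebraMap R S) ≫ CommRingCat.ofHom g₂ =
      CommRingCat.ofHom (algebraMap R S) ≫ CommRingCat.ofHom g₁ := by
    ext r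
    show (1 : S) ⊗ₜ[R] algebraMap R S r = algebraMap R S r ⊗ₜ[R] (1 : S)
    rw [Algebra.algebraMap_eq_smul_one, TensorProduct.smul_tmul]
  have h2 : CommRingCat.ofHom g₂ = CommRingCat.ofHom g₁ := by
    apply Spec.map_injective
    rw [← cancel_mono (Spec.map (CommRingCat.ofHom (algebraMap R S))), ← Spec.map_comp, ← Spec.map_comp, hag]
  exact RingHom.congr_fun (congrArg CommRingCat.Hom.hom h2) s

theorem exists_finite_subalgebra (A B B' B'' : Type u) [CommRing A] [CommRing B] [CommRing B'] [CommRing B'']
    [Algebra A B] [Algebra A B'] [Algebra A B''] [Algebra B' B] [Algebra B'' B] [IsScalarTower A B' B]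
    [IsScalarTower A B'' B] [Module.Finite A B'] [Module.Finite A B'']
    (h' : IsOpenImmersion (Spec.map (CommRingCat.ofHom (algebraMap B' B)))) :
    ∃ C : Subalgebra A B, Module.Finite A C ∧ Set.range (algebraMap B' B) ⊆ (C : Set B) ∧
      Set.range (algebraMap B'' B) ⊆ (C : Set B) ∧
      IsOpenImmersion (Spec.map (CommRingCat.ofHom C.val.toRingHom)) := by
  let f := IsScalarTower.toAlgHom A B' B
  let g := IsScalarTower.toAlgHom A B'' B
  let C : Subalgebra A B := f.range ⊔ g.range
  have hf : Set.range (algebraMap B' B) ⊆ (C : Set B) := by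
    rintro _ ⟨x, rfl⟩
    exact le_sup_left (a := f.range) (b := g.range) ⟨x, rfl⟩
  have hg : Set.range (algebraMap B'' B) ⊆ (C : Set B) := by
    rintro _ ⟨x, rfl⟩
    exact le_sup_right (a := f.range) (b := g.range) ⟨x, rfl⟩
  haveI : Module.Finite A f.range := Module.Finite.of_surjective f.rangeRestrict.toLinearMap f.rangeRestrict_surjective
  haveI : Module.Finite A g.range := Module.Finite.of_surjective g.rangeRestrict.toLinearMap g.rangeRestrict_surjective
  haveI hC : Module.Finite A C := Subalgebra.finite_sup _ _
  refine ⟨C, hC, hf, hg, ?_⟩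
  letI : Algebra B' C := ((algebraMap B' B).codRestrict C.toSubring fun x => hf ⟨x, rfl⟩).toAlgebra
  haveI : IsScalarTower B' C B := IsScalarTower.of_algebraMap_eq fun _ => rfl
  haveI := flat_of_openImmersion h'
  let v : C →ₐ[B'] B := IsScalarTower.toAlgHom B' C B
  let μ := Algebra.TensorProduct.productMap (Algebra.ofId B B |>.restrictScalars B') v
  have hμs : Function.Surjective μ := fun b => ⟨b ⊗ₜ 1, by simp [μ]⟩
  have hμi : Function.Injective μ := by
    let w : B ⊗[B'] C →ₗ[B'] B ⊗[B'] B := LinearMap.lTensor B v.toLinearMap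
    have hw : Function.Injective w := Module.Flat.lTensor_preserves_injective_linearMap _ Subtype.val_injective
    have key : ∀ z, w z = μ z ⊗ₜ[B'] (1 : B) := by
      intro z
      induction z using TensorProduct.induction_on with
      | zero => simp
      | add s t hs ht => rw [map_add, hs, ht, map_add, TensorProduct.add_tmul]
      | tmul b c =>
        show b ⊗ₜ[B'] v c = (b * v c) ⊗ₜ[B'] (1 : B)
        rw [← mul_one b, ← one_mul (v c), ← Algebra.TensorProduct.tmul_mul_tmul,
          one_tmul_eq_tmul_one_of_openImmersion h', Algebra.TensorProduct.tmul_mul_tmul]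
        simp
    intro a b hab
    apply hw
    rw [key, key, hab]
  haveI hpush : Algebra.IsPushout B' B C B := by
    refine ⟨IsBaseChange.of_equiv (LinearEquiv.ofBijective
      { toFun := μ
        map_add' := map_add μ
        map_smul' := fun b z => ?_ } ⟨hμi, hμs⟩) fun c => ?_⟩
    · induction z using TensorProduct.induction_on with
      | zero => simp
      | add s t hs ht => rw [smul_add, map_add, hs, ht, map_add, smul_add]
      | tmul r c =>
        rw [TensorProduct.smul_tmul']
        show (b * r) * v c = b * (r * v c)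
        rw [mul_assoc]
    · show (1 : B) * v c = v c
      rw [one_mul]
  have hsq := isPullback_SpecMap_of_isPushout _ _ _ _ (CommRingCat.isPushout_iff_isPushout.mpr hpush.symm)
  exact (MorphismProperty.of_isPullback (P := @IsOpenImmersion) hsq.flip h')

end Groth.Agent.DiscFam
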