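import Mathlib.RingTheory.Extension.Cotangent.Basic
import Mathlib.RingTheory.Extension.Presentation.Basic
import Groth.Agent.FittX.Ideal

/-!
The zeroth Fitting ideal of the differentials of a presentation with as many equations as variables.
-/

set_option autoImplicit false
set_option linter.unusedSectionVars false

universe u

open MvPolynomial Module

namespace Groth.Agent.DiscFam

theorem minors_span_rows {R : Type u} [CommRing R] {n : ℕ} (v : Fin n → Fin n → R) :
    FittX.minors n (Submodule.span R (Set.range v)) = Ideal.span {(Matrix.of v).det} := by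
  refine le_antisymm ?_ ?_
  · refine FittX.minors_le_of_span (FittX.span_proj n) fun φ hφ z hz => ?_
    choose e he using hφ
    choose g hg using hz
    have h : (Matrix.of fun b a => φ a (z b)) = (Matrix.of v).submatrix g e := by
      ext b a
      rw [Matrix.of_apply, ← he a, ← hg b]
      rfl
    rw [FittX.minor, h]
    by_cases hg' : Function.Injective g
    · by_cases he' : Function.Injective e
      · let σ := Equiv.ofBijective g ⟨hg', Finite.surjective_of_injective hg'⟩
        let τ := Equiv.ofBijective e ⟨he', Finite.surjective_of_injective he'⟩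
        have h2 : (Matrix.of v).submatrix g e = ((Matrix.of v).submatrix σ id).submatrix id τ := rfl
        rw [h2, Matrix.det_permute', Matrix.det_permute]
        exact Ideal.mul_mem_left _ _ (Ideal.mul_mem_left _ _ (Ideal.mem_span_singleton_self _))
      · obtain ⟨a, a', haa, hne⟩ := Function.not_injective_iff.1 he'
        rw [show ((Matrix.of v).submatrix g e).det = 0 from
          Matrix.det_zero_of_column_eq hne (fun b => by simp [haa])]
        exact Ideal.zero_mem _
    · obtain ⟨a, a', haa, hne⟩ := Function.not_injective_iff.1 hg'
      rw [show ((Matrix.of v).submatrix g e).det = 0 from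
        Matrix.det_zero_of_row_eq hne (by funext b; simp [haa])]
      exact Ideal.zero_mem _
  · rw [Ideal.span_le, Set.singleton_subset_iff]
    exact FittX.minor_mem (fun a : Fin n => (LinearMap.proj a : Dual R (Fin n → R)))
      (z := v) fun b => Submodule.subset_span ⟨b, rfl⟩

/-- The rows of the Jacobian matrix of a presentation span the relations among the differentials of
its generators. -/
theorem rel_differentials {A B : Type u} [CommRing A] [CommRing B] [Algebra A B] {n : ℕ} {σ : Type}
    (P : Algebra.Presentation A B (Fin n) σ) :
    FittX.rel (R := B) (fun i => KaehlerDifferential.D A B (P.val i)) =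
      Submodule.span B (Set.range fun (j : σ) (i : Fin n) => aeval P.val (pderiv i (P.relation j))) := by
  classical
  let b := P.cotangentSpaceBasis
  let K := P.toExtension.toKaehler
  have hK : ∀ z : Fin n → B, K (b.equivFun.symm z) = ∑ i, z i • KaehlerDifferential.D A B (P.val i) := fun z => by
    rw [Basis.equivFun_symm_apply, map_sum]
    exact Finset.sum_congr rfl fun i _ => by
      rw [map_smul]; exact congrArg _ (P.toGenerators.toKaehler_cotangentSpaceBasis i)
  have hrow : ∀ j : σ, ∀ i, b.equivFun (P.toExtension.cotangentComplex
      (Algebra.Extension.Cotangent.mk ⟨P.relation j, P.relation_mem_ker j⟩)) i =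
        aeval P.val (pderiv i (P.relation j)) := fun j i => by
    rw [Basis.equivFun_apply, Algebra.Extension.cotangentComplex_mk]
    exact P.toGenerators.cotangentSpaceBasis_repr_one_tmul _ i
  refine le_antisymm (fun z hz => ?_) ?_
  · rw [FittX.mem_rel, ← hK] at hz
    obtain ⟨c, hc⟩ := (P.toExtension.exact_cotangentComplex_toKaehler _).1 hz
    obtain ⟨⟨y, hy⟩, rfl⟩ := Algebra.Extension.Cotangent.mk_surjective c
    obtain rfl : z = b.equivFun (P.toExtension.cotangentComplex (Algebra.Extension.Cotangent.mk ⟨y, hy⟩)) := by
      rw [hc, LinearEquiv.apply_symm_apply]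
    clear hc hz
    let Φ : P.toExtension.ker →ₗ[P.toExtension.Ring] P.toExtension.Cotangent := Algebra.Extension.Cotangent.mk
    let S := Submodule.span B (Set.range fun (j : σ) (i : Fin n) => aeval P.val (pderiv i (P.relation j)))
    have hyJ : y ∈ Ideal.span (Set.range P.relation) := by
      rw [P.span_range_relation_eq_ker]; exact hy
    let g : P.toExtension.Ring → (Fin n → B) := fun x i => aeval P.val (pderiv i x)
    have hg : ∀ (x : P.toExtension.Ring) (hx : x ∈ P.toExtension.ker),
        b.equivFun (P.toExtension.cotangentComplex (Φ ⟨x, hx⟩)) = g x := fun x hx => funext fun i => by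
      rw [Basis.equivFun_apply, Algebra.Extension.cotangentComplex_mk]
      exact P.toGenerators.cotangentSpaceBasis_repr_one_tmul _ i
    rw [hg y hy]
    suffices H : ∀ y' : MvPolynomial (Fin n) A, y' ∈ Ideal.span (Set.range P.relation) → g y' ∈ S from H y hyJ
    intro y' hy'
    induction hy' using Submodule.span_induction with
    | mem x hx =>
      obtain ⟨j, rfl⟩ := hx
      exact Submodule.subset_span ⟨j, rfl⟩
    | zero =>
      have h0 : g (0 : MvPolynomial (Fin n) A) = 0 := funext fun i => by simp [g]
      exact h0 ▸ S.zero_mem
    | add a c ha hc iha ihc =>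
      have h0 : g (a + c : MvPolynomial (Fin n) A) = g a + g c := funext fun i => by
        show aeval P.val (pderiv i (a + c)) = aeval P.val (pderiv i a) + aeval P.val (pderiv i c)
        rw [map_add, map_add]
      exact h0 ▸ S.add_mem iha ihc
    | smul r a ha iha =>
      have ha' : aeval P.val a = 0 := by
        rw [← RingHom.mem_ker, ← P.ker_eq_ker_aeval_val, ← P.span_range_relation_eq_ker]
        exact ha
      have h0 : g (r * a : MvPolynomial (Fin n) A) = aeval P.val r • g a := funext fun i => by
        show aeval P.val (pderiv i (r * a)) = aeval P.val r * aeval P.val (pderiv i a)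
        rw [pderiv_mul, map_add, map_mul, map_mul, ha', mul_zero, zero_add]
      rw [smul_eq_mul, h0]
      exact S.smul_mem _ iha
  · rw [Submodule.span_le]
    rintro _ ⟨j, rfl⟩
    rw [SetLike.mem_coe, FittX.mem_rel, ← hK]
    refine (P.toExtension.exact_cotangentComplex_toKaehler _).2
      ⟨Algebra.Extension.Cotangent.mk ⟨P.relation j, P.relation_mem_ker j⟩, ?_⟩
    apply b.equivFun.injective
    rw [LinearEquiv.apply_symm_apply]
    exact funext fun i => hrow j i

theorem span_differentials {A B : Type u} [CommRing A] [CommRing B] [Algebra A B] {n : ℕ} {σ : Type}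
    (P : Algebra.Presentation A B (Fin n) σ) :
    Submodule.span B (Set.range fun i => KaehlerDifferential.D A B (P.val i)) = ⊤ := by
  have h := congrArg (Submodule.map P.toExtension.toKaehler) P.cotangentSpaceBasis.span_eq
  rw [Submodule.map_top, LinearMap.range_eq_top.2 P.toExtension.toKaehler_surjective, Submodule.map_span,
    ← Set.range_comp] at h
  rw [← h]
  congr 1
  exact congrArg Set.range (funext fun i => (P.toGenerators.toKaehler_cotangentSpaceBasis i).symm)

/-- The zeroth Fitting ideal of the differentials is generated by the Jacobian determinant. -/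
theorem fittingIdeal_kaehler_eq {A B : Type u} [CommRing A] [CommRing B] [Algebra A B] {n : ℕ}
    (P : Algebra.Presentation A B (Fin n) (Fin n)) :
    Fitt.ideal B (KaehlerDifferential A B) 0 =
      Ideal.span {(Matrix.of fun j i : Fin n => aeval P.val (pderiv i (P.relation j))).det} := by
  rw [FittX.ideal_eq_minors _ (span_differentials P) 0, Nat.sub_zero, rel_differentials P, minors_span_rows]

/-- The case of a quotient of a polynomial ring. -/
theorem fittingIdeal_kaehler_quotient {A : Type u} [CommRing A] {n : ℕ}
    (f : Fin n → MvPolynomial (Fin n) A) :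
    Fitt.ideal (MvPolynomial (Fin n) A ⧸ Ideal.span (Set.range f))
        (KaehlerDifferential A (MvPolynomial (Fin n) A ⧸ Ideal.span (Set.range f))) 0 =
      Ideal.span {Ideal.Quotient.mk (Ideal.span (Set.range f))
        (Matrix.det (Matrix.of fun i j : Fin n => pderiv j (f i)))} := by
  rw [fittingIdeal_kaehler_eq (Algebra.Presentation.naive (v := f)), RingHom.map_det]
  congr 3
  ext i j
  simp only [Matrix.of_apply, RingHom.mapMatrix_apply, Matrix.map_apply, Algebra.Presentation.naive_relation_apply]
  exact (AlgHom.congr_fun (MvPolynomial.aeval_unique (Ideal.Quotient.mkₐ A (Ideal.span (Set.range f)))) _).symm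

end Groth.Agent.DiscFam
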