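import Mathlib

/-!
Flatness over a total ring of fractions, tested at the primes avoiding the nonzerodivisors of the base.
-/

set_option autoImplicit false
set_option linter.style.haveILetI false
set_option linter.unusedSectionVars false

universe u

open scoped TensorProduct

namespace Groth.Agent.DiscFam

variable (A B : Type u) [CommRing A] [CommRing B] [Algebra A B]

/-- The image of the nonzerodivisors of the base. -/
abbrev nzdImage : Submonoid B := Algebra.algebraMapSubmonoid B (nonZeroDivisors A)

theorem isLocalization_fractionRing_tensor :
    letI : Algebra B (FractionRing A ⊗[A] B) := Algebra.TensorProduct.rightAlgebra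
    IsLocalization (nzdImage A B) (FractionRing A ⊗[A] B) :=
  IsLocalization.tensorRight (FractionRing A) (nonZeroDivisors A)

theorem flat_atPrime_of_disjoint (h2 : Module.Flat (FractionRing A) (FractionRing A ⊗[A] B))
    (q : Ideal B) [q.IsPrime] (hq : nzdImage A B ≤ q.primeCompl) :
    Module.Flat A (Localization.AtPrime q) := by
  let C := FractionRing A ⊗[A] B
  letI : Algebra B C := Algebra.TensorProduct.rightAlgebra
  haveI : IsLocalization (nzdImage A B) C := isLocalization_fractionRing_tensor A B
  haveI : IsScalarTower A B C := IsScalarTower.of_algebraMap_eq fun a => by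
    show algebraMap A C a = (1 : FractionRing A) ⊗ₜ[A] algebraMap A B a
    rw [Algebra.TensorProduct.algebraMap_apply, Algebra.algebraMap_eq_smul_one (A := B),
      ← TensorProduct.smul_tmul, ← Algebra.algebraMap_eq_smul_one]
  let P := Localization.AtPrime q
  letI : Algebra C P := IsLocalization.localizationAlgebraOfSubmonoidLe C P (nzdImage A B) q.primeCompl hq
  haveI : IsScalarTower B C P :=
    IsLocalization.localization_isScalarTower_of_submonoid_le C P (nzdImage A B) q.primeCompl hq
  haveI := IsLocalization.isLocalization_of_submonoid_le C P (nzdImage A B) q.primeCompl hq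
  haveI : IsScalarTower A C P := IsScalarTower.to₁₃₄ A B C P
  haveI : Module.Flat A (FractionRing A) := IsLocalization.flat (FractionRing A) (nonZeroDivisors A)
  haveI : Module.Flat A C := Module.Flat.trans A (FractionRing A) C
  haveI : Module.Flat C P := IsLocalization.flat P (q.primeCompl.map (algebraMap B C))
  exact Module.Flat.trans A C P

theorem flat_fractionRing_of_maximal_disjoint
    (h : ∀ (q : Ideal B) [q.IsPrime], nzdImage A B ≤ q.primeCompl →
      (∀ (q' : Ideal B) [q'.IsPrime], nzdImage A B ≤ q'.primeCompl → q ≤ q' → q' ≤ q) →
        Module.Flat A (Localization.AtPrime q)) :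
    Module.Flat (FractionRing A) (FractionRing A ⊗[A] B) := by
  let Q := FractionRing A
  let C := Q ⊗[A] B
  letI : Algebra B C := Algebra.TensorProduct.rightAlgebra
  haveI : IsLocalization (nzdImage A B) C := isLocalization_fractionRing_tensor A B
  haveI : IsScalarTower A B C := IsScalarTower.of_algebraMap_eq fun a => by
    show algebraMap A C a = (1 : FractionRing A) ⊗ₜ[A] algebraMap A B a
    rw [Algebra.TensorProduct.algebraMap_apply, Algebra.algebraMap_eq_smul_one (A := B),
      ← TensorProduct.smul_tmul, ← Algebra.algebraMap_eq_smul_one]
  refine Module.flat_of_isLocalized_maximal C C (fun P [P.IsMaximal] => Localization.AtPrime P)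
    (fun P [P.IsMaximal] => Algebra.linearMap C (Localization.AtPrime P)) fun P hP => ?_
  let q : Ideal B := P.comap (algebraMap B C)
  have hd : Disjoint (nzdImage A B : Set B) (q : Set B) :=
    ((IsLocalization.isPrime_iff_isPrime_disjoint (nzdImage A B) C P).1 hP.isPrime).2
  have hd' : nzdImage A B ≤ q.primeCompl := fun x hx => Set.disjoint_left.1 hd hx
  have hmax : ∀ (q' : Ideal B) [q'.IsPrime], nzdImage A B ≤ q'.primeCompl → q ≤ q' → q' ≤ q := by
    intro q' hq' hd'' hle
    have hdis : Disjoint (nzdImage A B : Set B) (q' : Set B) := Set.disjoint_left.2 fun x hx => hd'' hx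
    have hpr := IsLocalization.isPrime_of_isPrime_disjoint (nzdImage A B) C q' hq' hdis
    have hle' : P ≤ q'.map (algebraMap B C) := by
      rw [← IsLocalization.map_under (nzdImage A B) C P]
      exact Ideal.map_mono hle
    have heq : P = q'.map (algebraMap B C) := hP.eq_of_le hpr.ne_top hle'
    intro x hx
    show algebraMap B C x ∈ P
    rw [heq]
    exact Ideal.mem_map_of_mem _ hx
  haveI := h q hd' hmax
  haveI : IsLocalization.AtPrime (Localization.AtPrime P) q :=
    IsLocalization.isLocalization_isLocalization_atPrime_isLocalization (nzdImage A B) _ P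
  haveI : IsScalarTower A B (Localization.AtPrime P) := IsScalarTower.of_algebraMap_eq fun a => by
    rw [IsScalarTower.algebraMap_apply B C (Localization.AtPrime P), ← IsScalarTower.algebraMap_apply A B C,
      ← IsScalarTower.algebraMap_apply A C (Localization.AtPrime P)]
  let e : Localization.AtPrime q ≃ₐ[A] Localization.AtPrime P :=
    (IsLocalization.algEquiv q.primeCompl (Localization.AtPrime q) (Localization.AtPrime P)).restrictScalars A
  haveI : Module.Flat A (Localization.AtPrime P) := Module.Flat.of_linearEquiv e.symm.toLinearEquiv
  exact (Module.flat_iff_of_isLocalization Q (nonZeroDivisors A) (Localization.AtPrime P)).mpr inferInstance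

end Groth.Agent.DiscFam
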