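import Mathlib
import Groth.Agent.QFD.FibreFlat

/-!
Flatness of the relative dualizing module of a flat quasi-finite map.
-/

set_option autoImplicit false
set_option linter.style.haveILetI false
set_option linter.unusedSectionVars false

universe u

open TensorProduct AlgebraicGeometry

namespace Groth.Agent.DiscFam

theorem flat_omega (A B B' : Type u) [CommRing A] [CommRing B] [CommRing B'] [IsNoetherianRing A]
    [Algebra A B] [Module.Flat A B] [Algebra A B'] [Algebra B' B] [IsScalarTower A B' B]
    (hf : QFDual.IsQFFactor A B' B) : Module.Flat A (QFDual.omega A B' B) := by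
  let g := fun (Q : Ideal B) [Q.IsMaximal] =>
    (TensorProduct.AlgebraTensorModule.map (R := B') (A := B) (Algebra.linearMap B (Localization.AtPrime Q))
      (LinearMap.id : Disc.Omega A B' →ₗ[B'] Disc.Omega A B'))
  have hloc : ∀ (Q : Ideal B) [Q.IsMaximal], IsLocalizedModule.AtPrime Q (g Q) := fun Q _ => by
    refine (isLocalizedModule_iff_isBaseChange Q.primeCompl (Localization.AtPrime Q) (g Q)).mpr ?_
    refine IsBaseChange.of_comp (TensorProduct.isBaseChange B' (Disc.Omega A B') B) ?_
    convert TensorProduct.isBaseChange B' (Disc.Omega A B') (Localization.AtPrime Q) using 1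
    ext φ
    simp [g]
  exact @Module.flat_of_isLocalized_maximal A B _ _ _ (QFDual.omega A B' B) _ _ _ _
    (fun Q [Q.IsMaximal] => QFDual.omega A B' (Localization.AtPrime Q)) _ _ _ _ g hloc fun Q _ =>
      QFD.flat_omega_atPrime hf Q

end Groth.Agent.DiscFam
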