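import Mathlib
import Groth.Agent.KRegLib.WeakReg

/-!
The sequence of translated variables in a polynomial ring.
-/

set_option autoImplicit false
set_option linter.style.haveILetI false
set_option linter.unusedSectionVars false

universe u

open MvPolynomial RingTheory.Sequence

namespace Groth.Agent.DiscFam

theorem sub_C_eval_mem {B : Type u} [CommRing B] {n : ℕ} (b : Fin n → B) (p : MvPolynomial (Fin n) B) :
    p - C (eval b p) ∈ Ideal.span (Set.range fun j => X j - C (b j)) := by
  induction p using MvPolynomial.induction_on with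
  | C a => simp
  | add s t hs ht =>
    rw [map_add, map_add, show s + t - (C (eval b s) + C (eval b t)) = (s - C (eval b s)) + (t - C (eval b t)) by ring]
    exact Ideal.add_mem _ hs ht
  | mul_X s j hs =>
    rw [map_mul, eval_X, map_mul,
      show s * X j - C (eval b s) * C (b j) = (s - C (eval b s)) * X j + C (eval b s) * (X j - C (b j)) by ring]
    exact Ideal.add_mem _ (Ideal.mul_mem_right _ _ hs) (Ideal.mul_mem_left _ _ (Ideal.subset_span ⟨j, rfl⟩))

theorem ker_eval_eq_span {B : Type u} [CommRing B] {n : ℕ} (b : Fin n → B) :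
    RingHom.ker (eval b) = Ideal.span (Set.range fun j => X j - C (b j)) := by
  refine le_antisymm (fun p hp => ?_) ?_
  · have h := sub_C_eval_mem b p
    rwa [RingHom.mem_ker.1 hp, map_zero, sub_zero] at h
  · rw [Ideal.span_le]
    rintro _ ⟨j, rfl⟩
    simp

theorem isWeaklyRegular_var_sub {B : Type u} [CommRing B] : ∀ (n : ℕ) (b : Fin n → B),
    IsWeaklyRegular (MvPolynomial (Fin n) B) (List.ofFn fun j => X j - C (b j))
  | 0, b => by rw [List.ofFn_zero]; exact IsWeaklyRegular.nil _ _
  | n + 1, b => by
    rw [List.ofFn_succ, isWeaklyRegular_cons_iff']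
    let r : MvPolynomial (Fin (n + 1)) B := X 0 - C (b 0)
    have hr : finSuccEquiv B n r = Polynomial.X - Polynomial.C (C (b 0)) := by
      simp [r, finSuccEquiv_X_zero, finSuccEquiv_apply]
    refine ⟨?_, ?_⟩
    · refine IsSMulRegular.of_right_eq_zero_of_smul fun x hx => ?_
      refine (finSuccEquiv B n).injective ?_
      have h0 : finSuccEquiv B n r * finSuccEquiv B n x = 0 := by
        rw [← map_mul]
        exact (congrArg (finSuccEquiv B n) hx).trans (map_zero _)
      rw [hr] at h0
      rw [map_zero]
      exact (Polynomial.monic_X_sub_C _).mul_right_eq_zero_iff.1 h0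
    let ψ : MvPolynomial (Fin (n + 1)) B →ₐ[B] MvPolynomial (Fin n) B := aeval (Fin.cons (C (b 0)) X)
    have hψX : ∀ j, ψ (X j) = (Fin.cons (C (b 0)) X : Fin (n + 1) → MvPolynomial (Fin n) B) j := fun j => aeval_X _ j
    have hψs : Function.Surjective ψ := fun p => ⟨rename Fin.succ p, by
      show ψ (rename Fin.succ p) = p
      rw [aeval_rename]
      simp⟩
    have hψk : RingHom.ker ψ = Ideal.span {r} := by
      refine le_antisymm (fun p hp => ?_) ?_
      · have hsplit : ∀ q : MvPolynomial (Fin (n + 1)) B, q - rename Fin.succ (ψ q) ∈ Ideal.span {r} := by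
          intro q
          induction q using MvPolynomial.induction_on with
          | C a => simp
          | add s t hs ht =>
            rw [map_add, map_add, show s + t - (rename Fin.succ (ψ s) + rename Fin.succ (ψ t)) =
              (s - rename Fin.succ (ψ s)) + (t - rename Fin.succ (ψ t)) by ring]
            exact Ideal.add_mem _ hs ht
          | mul_X s j hs =>
            have hj : X j - rename Fin.succ (ψ (X j)) ∈ Ideal.span {r} := by
              rw [hψX]
              induction j using Fin.cases with
              | zero => rw [Fin.cons_zero, rename_C]; exact Ideal.mem_span_singleton_self _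
              | succ j => rw [Fin.cons_succ, rename_X, sub_self]; exact Ideal.zero_mem _
            rw [map_mul, map_mul, show s * X j - rename Fin.succ (ψ s) * rename Fin.succ (ψ (X j)) =
              (s - rename Fin.succ (ψ s)) * X j + rename Fin.succ (ψ s) * (X j - rename Fin.succ (ψ (X j))) by ring]
            exact Ideal.add_mem _ (Ideal.mul_mem_right _ _ hs) (Ideal.mul_mem_left _ _ hj)
        have h := hsplit p
        rwa [RingHom.mem_ker.1 hp, map_zero, sub_zero] at h
      · rw [Ideal.span_le, Set.singleton_subset_iff, SetLike.mem_coe, RingHom.mem_ker]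
        simp [r, hψX]
    let e : QuotSMulTop r (MvPolynomial (Fin (n + 1)) B) ≃+ MvPolynomial (Fin n) B :=
      ((Submodule.quotEquivOfEq _ _ (by
        rw [← Submodule.ideal_span_singleton_smul, smul_eq_mul, Ideal.mul_top, hψk])).toAddEquiv : _ ≃+
          MvPolynomial (Fin (n + 1)) B ⧸ RingHom.ker ψ).trans
        (RingHom.quotientKerEquivOfSurjective hψs).toAddEquiv
    refine (AddEquiv.isWeaklyRegular_congr (e := e) (List.forall₂_iff_get.2 ⟨by simp, fun i h₁ h₂ x => ?_⟩)).2
      (isWeaklyRegular_var_sub n fun j => b j.succ)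
    have he : ∀ y : MvPolynomial (Fin (n + 1)) B, e (Submodule.Quotient.mk y) = ψ y := fun _ => rfl
    obtain ⟨y, rfl⟩ := Submodule.Quotient.mk_surjective _ x
    simp only [List.get_eq_getElem, List.getElem_map, List.getElem_ofFn]
    refine Eq.trans (congrArg e (show _ = Submodule.Quotient.mk ((X (Fin.succ ⟨i, _⟩) - C (b (Fin.succ ⟨i, _⟩))) * y) from rfl)) ?_
    rw [he, he, smul_eq_mul, map_mul, map_sub, hψX, Fin.cons_succ]
    congr 2
    exact aeval_C _ _

theorem isExact_var_sub {B : Type u} [CommRing B] {n : ℕ} (b : Fin n → B) :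
    WiebeLib.IsExact (fun j => (X j - C (b j) : MvPolynomial (Fin n) B)) :=
  KRegLib.isExact_of_isWeaklyRegular _ (isWeaklyRegular_var_sub n b)

end Groth.Agent.DiscFam
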