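import Mathlib
import Groth.Agent.DiscFam.VarSeq
import Groth.Agent.DiffLib.Basic
import Groth.Agent.KoszulFlatLib.OfExact
import Groth.Agent.Synt29.KoszulLocal
import Groth.Agent.Synt29.Descent
import Groth.Agent.Synt29.RelReg
import Groth.Agent.LC.GorLCI
import Groth.Agent.QFD.GorFibre
import Groth.Agent.S2235

/-!
Quasi-finite algebras with as many equations as variables: flatness, the Noether different, and the
trivialisation of the dualizing module.
-/

set_option autoImplicit false
set_option linter.style.haveILetI false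
set_option linter.unusedSectionVars false

universe u

open MvPolynomial TensorProduct

namespace Groth.Agent.DiscFam

theorem ringKrullDim_eq_zero_of_artinian (T : Type u) [CommRing T] [IsArtinianRing T] [Nontrivial T] :
    ringKrullDim T = 0 :=
  le_antisymm (Ring.krullDimLE_iff.mp inferInstance) ringKrullDim_nonneg_of_nontrivial

theorem isExact_ringEquiv {R S : Type u} [CommRing R] [CommRing S] (e : R ≃+* S) {m : ℕ} {f : Fin m → R}
    (h : WiebeLib.IsExact f) : WiebeLib.IsExact (fun i => e (f i)) := by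
  letI : Algebra R S := e.toRingHom.toAlgebra
  haveI : Module.Flat R S := RingHom.flat_algebraMap_iff.mp (RingHom.Flat.of_bijective e.bijective)
  exact WiebeLib.isExact_map h

variable {A : Type u} [CommRing A] {n : ℕ} (f : Fin n → MvPolynomial (Fin n) A)

local notation "QB" => MvPolynomial (Fin n) A ⧸ Ideal.span (Set.range f)

theorem isRelGCI_of_quasiFinite [Algebra.QuasiFinite A QB] : Synt.IsRelGCI A n n f := by
  intro p hp
  haveI : Module.Finite p.asIdeal.ResidueField (p.asIdeal.Fiber (Synt.RelGCIRing A n n f)) :=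
    Algebra.QuasiFinite.finite_fiber p.asIdeal
  haveI : IsArtinianRing (p.asIdeal.Fiber (Synt.RelGCIRing A n n f)) :=
    isArtinian_of_tower p.asIdeal.ResidueField inferInstance
  refine ⟨le_rfl, ?_⟩
  rw [Nat.sub_self, Nat.cast_zero]
  exact ringKrullDim_eq_zero_of_artinian (p.asIdeal.Fiber (Synt.RelGCIRing A n n f))

theorem flat_quotient [Algebra.QuasiFinite A QB] : Module.Flat A QB :=
  Synt29.flat_relGCIRing (isRelGCI_of_quasiFinite f)

theorem isKoszulRegularSeq_equations [Algebra.QuasiFinite A QB] :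
    LCI.IsKoszulRegularSeq (MvPolynomial (Fin n) A) (List.ofFn f) :=
  Synt29.isKoszulRegularSeq_of_local _ fun q hq hmem =>
    Synt29.weaklyRegular_relGCI (isRelGCI_of_quasiFinite f) q fun i => hmem _ (List.mem_ofFn.2 ⟨i, rfl⟩)

theorem isLCI_quotient [Algebra.QuasiFinite A QB] : LCI.IsLCI A QB := by
  let I := Ideal.span (Set.range f)
  refine ⟨Algebra.FiniteType.of_surjective (Ideal.Quotient.mkₐ A I) Ideal.Quotient.mk_surjective, n,
    Ideal.Quotient.mkₐ A I, Ideal.Quotient.mk_surjective, fun q _ => ⟨1, q.isPrime.one_notMem, ?_⟩⟩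
  let L := Localization.Away (1 : MvPolynomial (Fin n) A)
  haveI : Module.Flat (MvPolynomial (Fin n) A) L := IsLocalization.flat L (Submonoid.powers 1)
  refine ⟨List.ofFn fun i => algebraMap _ L (f i), KoszulFlatLib.isKoszulRegularSeq_of_isExact
    (WiebeLib.isExact_map (WiebeLib.isExact_of_isKoszulRegularSeq f (isKoszulRegularSeq_equations f))), ?_⟩
  rw [show RingHom.ker (Ideal.Quotient.mkₐ A I).toRingHom = I from Ideal.mk_ker, Ideal.map_span, ← Set.range_comp]
  congr 1
  ext z
  simp [List.mem_ofFn]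
  rfl

/-- The diagonal datum: one element of the tensor square generating the annihilator of the diagonal ideal,
mapped by multiplication to the Jacobian determinant. -/
theorem exists_delta [Algebra.QuasiFinite A QB] :
    ∃ δ : QB ⊗[A] QB,
      Submodule.annihilator (RingHom.ker (Algebra.TensorProduct.lmul' (S := QB) A)) = Ideal.span {δ} ∧
      Algebra.TensorProduct.lmul' A δ =
        Ideal.Quotient.mk (Ideal.span (Set.range f)) (Matrix.det (Matrix.of fun i j => pderiv j (f i))) := by
  classical
  haveI := flat_quotient f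
  let I := Ideal.span (Set.range f)
  let b : Fin n → QB := fun j => Ideal.Quotient.mk I (X j)
  let ε : MvPolynomial (Fin n) A ⊗[A] QB ≃ₐ[A] MvPolynomial (Fin n) QB :=
    (Algebra.TensorProduct.comm A _ _).trans ((MvPolynomial.algebraTensorAlgEquiv A QB).restrictScalars A)
  have hεl : ∀ p : MvPolynomial (Fin n) A, ε (p ⊗ₜ 1) = MvPolynomial.map (algebraMap A QB) p := fun p => by
    simp [ε, MvPolynomial.algebraTensorAlgEquiv_tmul]
  have hεr : ∀ x : QB, ε (1 ⊗ₜ x) = C x := fun x => by
    simp [ε, MvPolynomial.algebraTensorAlgEquiv_tmul, MvPolynomial.smul_eq_C_mul]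
  let pm := Algebra.TensorProduct.productMap (Ideal.Quotient.mkₐ A I) (AlgHom.id A QB)
  have hpm : ∀ t, pm t = eval b (ε t) := by
    intro t
    induction t using TensorProduct.induction_on with
    | zero => simp
    | add s t hs ht => simp only [map_add, hs, ht]
    | tmul p x =>
      rw [show (p ⊗ₜ[A] x : MvPolynomial (Fin n) A ⊗[A] QB) = (p ⊗ₜ 1) * (1 ⊗ₜ x) by
        rw [Algebra.TensorProduct.tmul_mul_tmul, mul_one, one_mul]]
      rw [map_mul, map_mul, map_mul, hεl, hεr, eval_C, eval_map]
      congr 1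
      · rw [Algebra.TensorProduct.productMap_left_apply]
        exact AlgHom.congr_fun (MvPolynomial.aeval_unique (Ideal.Quotient.mkₐ A I)) p
      · exact Algebra.TensorProduct.productMap_right_apply _ _ x
  let g : Fin n → MvPolynomial (Fin n) A ⊗[A] QB := fun j => ε.symm (X j - C (b j))
  have hg : LCI.IsKoszulRegularSeq (MvPolynomial (Fin n) A ⊗[A] QB) (List.ofFn g) := by
    let e : MvPolynomial (Fin n) QB ≃+* MvPolynomial (Fin n) A ⊗[A] QB :=
      RingEquiv.ofBijective (ε.symm.toAlgHom : MvPolynomial (Fin n) QB →ₐ[A] MvPolynomial (Fin n) A ⊗[A] QB)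
        ε.symm.bijective
    have h := isExact_ringEquiv (S := MvPolynomial (Fin n) A ⊗[A] QB) e (isExact_var_sub b)
    exact KoszulFlatLib.isKoszulRegularSeq_of_isExact h
  have hgker : Ideal.span (Set.range g) = RingHom.ker pm := by
    ext t
    rw [RingHom.mem_ker, hpm, ← RingHom.mem_ker (f := eval b), ker_eval_eq_span,
      Ideal.mem_span_range_iff_exists_fun, Ideal.mem_span_range_iff_exists_fun]
    constructor
    · rintro ⟨c, rfl⟩
      exact ⟨fun j => ε (c j), by simp [g, map_sum]⟩
    · rintro ⟨c, hc⟩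
      exact ⟨fun j => ε.symm (c j), ε.injective (by simp [g, map_sum, hc])⟩
  have hD : ∀ i, ∃ D : Fin n → MvPolynomial (Fin n) QB,
      MvPolynomial.map (algebraMap A QB) (f i) = ∑ j, D j * (X j - C (b j)) := by
    intro i
    have : MvPolynomial.map (algebraMap A QB) (f i) ∈ Ideal.span (Set.range fun j => X j - C (b j)) := by
      rw [← ker_eval_eq_span, RingHom.mem_ker, eval_map]
      refine (AlgHom.congr_fun (MvPolynomial.aeval_unique (Ideal.Quotient.mkₐ A I)) (f i)).symm.trans ?_
      exact Ideal.Quotient.eq_zero_iff_mem.mpr (Ideal.subset_span ⟨i, rfl⟩)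
    obtain ⟨D, hD⟩ := Ideal.mem_span_range_iff_exists_fun.mp this
    exact ⟨D, hD.symm⟩
  choose D hD using hD
  let c : Matrix (Fin n) (Fin n) (MvPolynomial (Fin n) A ⊗[A] QB) := Matrix.of fun i j => ε.symm (D i j)
  have hc : ∀ i, f i ⊗ₜ[A] (1 : QB) = ∑ j, c i j * g j := fun i => ε.injective (by
    rw [hεl, hD i, map_sum]
    refine Finset.sum_congr rfl fun j _ => ?_
    simp [c, g])
  let π := Algebra.TensorProduct.map (Ideal.Quotient.mkₐ A I) (AlgHom.id A QB)
  refine ⟨π c.det, S2235.result f (isKoszulRegularSeq_equations f) g hg hgker c hc, ?_⟩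
  have hμ : ∀ t, Algebra.TensorProduct.lmul' A (π t) = pm t := by
    intro t
    induction t using TensorProduct.induction_on with
    | zero => simp
    | add s t hs ht => simp only [map_add, hs, ht]
    | tmul p x => simp [π, pm]
  rw [hμ, RingHom.map_det]
  refine (AlgHom.map_det pm c).trans ?_
  congr 1
  ext i j
  rw [AlgHom.mapMatrix_apply, RingHom.mapMatrix_apply, Matrix.map_apply, Matrix.map_apply, hpm]
  simp only [c, Matrix.of_apply, AlgEquiv.apply_symm_apply]
  have h1 := congrArg (fun q => eval b (pderiv j q)) (hD i)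
  simp only [map_sum, pderiv_mul, map_add, map_mul, map_sub, eval_X, eval_C, sub_self, mul_zero,
    zero_add, pderiv_C] at h1
  rw [Finset.sum_eq_single j (fun k _ hk => by rw [pderiv_X, Pi.single_eq_of_ne hk]; simp) (by simp),
    pderiv_X_self, map_one] at h1
  rw [pderiv_map, eval_map] at h1
  simp only [map_zero, sub_zero, mul_one] at h1
  rw [← h1]
  exact (AlgHom.congr_fun (MvPolynomial.aeval_unique (Ideal.Quotient.mkₐ A I)) _).symm

theorem noetherDifferent_eq_span [Algebra.QuasiFinite A QB] :
    Disc.noetherDifferent A QB = Ideal.span {Ideal.Quotient.mk (Ideal.span (Set.range f))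
      (Matrix.det (Matrix.of fun i j => pderiv j (f i)))} := by
  obtain ⟨δ, hδ, hμ⟩ := exists_delta f
  rw [Disc.noetherDifferent, hδ, Ideal.map_span, Set.image_singleton, hμ]

theorem gorenstein_fibre [IsNoetherianRing A] [Algebra.QuasiFinite A QB] (p : Ideal A) [p.IsPrime] :
    LocCoh.IsGorensteinRing (p.Fiber QB) := by
  haveI := flat_quotient f
  exact LC.gorensteinRing_of_ringEquiv (Algebra.TensorProduct.comm A QB p.ResidueField).toRingEquiv
    (LC.gorensteinRing_fibre_of_isLCI A QB (isLCI_quotient f) p)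

/-- The dualizing module is free, and the Jacobian determinant corresponds to the trace. -/
theorem exists_omega_equiv_jacobian [IsNoetherianRing A] [Module.Finite A QB] [Module.Free A QB] :
    ∃ e : QB ≃ₗ[QB] Disc.Omega A QB,
      e (Ideal.Quotient.mk (Ideal.span (Set.range f)) (Matrix.det (Matrix.of fun i j => pderiv j (f i)))) =
        Disc.Omega.trace A QB := by
  classical
  haveI : Module.Invertible QB (Disc.Omega A QB) :=
    QFD.gorenstein_fibres_iff.mp fun p _ => gorenstein_fibre f p
  obtain ⟨δ, hδ, hμ⟩ := exists_delta f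
  let bas := Module.Free.chooseBasis A QB
  have hδmem : δ ∈ Submodule.annihilator (RingHom.ker (Algebra.TensorProduct.lmul' (S := QB) A)) :=
    hδ ▸ Ideal.mem_span_singleton_self δ
  let Θ : Disc.Omega A QB →ₗ[QB] QB :=
    { toFun := fun l => DiffLib.ev l δ
      map_add' := fun l l' => DiffLib.ev_add l l' δ
      map_smul' := fun c l => by
        rw [DiffLib.ev_smul, (DiffLib.mem_annihilator_iff δ).mp hδmem c, ← DiffLib.mul_ev]; rfl }
  have hgen : ∀ Φ : Module.Dual QB (Disc.Omega A QB), ∀ l, Φ l ∈ Ideal.span {r | ∃ m, Θ m = r} := by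
    intro Φ l
    obtain ⟨ξ, ⟨hξ, hΦ⟩, -⟩ := DiffLib.existsUnique_xi bas Φ
    rw [hδ, Ideal.mem_span_singleton'] at hξ
    obtain ⟨t, rfl⟩ := hξ
    rw [hΦ l]
    clear hΦ
    induction t using TensorProduct.induction_on with
    | zero => simp
    | add s t hs ht => rw [add_mul, map_add]; exact Ideal.add_mem _ hs ht
    | tmul x y =>
      have h2 : (x ⊗ₜ[A] y) * δ = ((1 : QB) ⊗ₜ[A] (x * y)) * δ := by
        rw [show (x ⊗ₜ[A] y : QB ⊗[A] QB) = (x ⊗ₜ 1) * (1 ⊗ₜ y) by
          rw [Algebra.TensorProduct.tmul_mul_tmul, mul_one, one_mul],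
          mul_comm (x ⊗ₜ[A] (1 : QB)), mul_assoc, (DiffLib.mem_annihilator_iff δ).mp hδmem x]
        refine (mul_assoc ((1 : QB) ⊗ₜ[A] y) ((1 : QB) ⊗ₜ[A] x) δ).symm.trans ?_
        rw [
          Algebra.TensorProduct.tmul_mul_tmul, mul_one, mul_comm y x]
      rw [h2, ← DiffLib.mul_ev]
      exact Ideal.mul_mem_left _ _ (Ideal.subset_span ⟨l, rfl⟩)
  have htop : Ideal.span {r | ∃ m, Θ m = r} = ⊤ := by
    rw [eq_top_iff]
    intro r hr
    clear hr
    obtain ⟨z, rfl⟩ := (Module.Invertible.linearEquiv QB (Disc.Omega A QB)).surjective r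
    induction z using TensorProduct.induction_on with
    | zero => simp
    | add s t hs ht => rw [map_add]; exact Ideal.add_mem _ hs ht
    | tmul Φ m => exact hgen Φ m
  have hsurj : Function.Surjective Θ := by
    rw [← LinearMap.range_eq_top, eq_top_iff, ← htop]
    refine Submodule.span_le.2 ?_
    rintro _ ⟨m, rfl⟩
    exact ⟨m, rfl⟩
  let e := LinearEquiv.ofBijective Θ (Module.Invertible.bijective_of_surjective hsurj)
  refine ⟨e.symm, e.symm_apply_eq.mpr ?_⟩
  show _ = DiffLib.ev (Disc.Omega.trace A QB) δ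
  have h3 := DiffLib.lmul_mkXi bas Θ
  rw [show DiffLib.mkXi bas Θ = δ from (DiffLib.eq_mkXi bas δ).symm, hμ] at h3
  exact h3

end Groth.Agent.DiscFam
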