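import Mathlib
import Groth.Agent.DiscFam.TateJac
import Groth.Agent.DiscFam.FittJac
import Groth.Agent.DiffLib.BaseChange
import Groth.Agent.S2221
import Groth.Agent.Synt29.LocalRelGCI
import Groth.Agent.Synt29.KoszulPresentation

/-!
The different of a finite free syntomic algebra is the zeroth Fitting ideal of its differentials.
-/

set_option autoImplicit false
set_option linter.style.haveILetI false
set_option linter.unusedSectionVars false

universe u

open AlgebraicGeometry CategoryTheory TensorProduct

namespace Groth.Agent.DiscFam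

variable {A S T : Type u} [CommRing A] [CommRing S] [CommRing T] [Algebra A S] [Algebra A T] [Algebra S T]
  [IsScalarTower A S T]

theorem noetherDifferent_map_away [Algebra.FiniteType A S] (g : S) [IsLocalization.Away g T] :
    Disc.noetherDifferent A T = (Disc.noetherDifferent A S).map (algebraMap S T) :=
  DiffLib.noetherDifferent_openImmersion (IsOpenImmersion.of_isLocalization g)

theorem fittingIdeal_kaehler_map_away [Algebra.FiniteType A S] (g : S) [IsLocalization.Away g T] :
    Fitt.ideal T (KaehlerDifferential A T) 0 =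
      (Fitt.ideal S (KaehlerDifferential A S) 0).map (algebraMap S T) := by
  haveI : Algebra.FormallyEtale S T := Algebra.FormallyEtale.of_isLocalization (Submonoid.powers g)
  exact FittX.ideal_baseChange (KaehlerDifferential.isBaseChange_of_formallyEtale A S T) 0

/-- On a quasi-finite standard algebra the two differents agree. -/
theorem noetherDifferent_eq_fitting_of_isStd [Algebra.QuasiFinite A T] (h : Synt29.IsStd A T) :
    Disc.noetherDifferent A T = Fitt.ideal T (KaehlerDifferential A T) 0 := by
  rcases subsingleton_or_nontrivial T with hT | hT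
  · exact Subsingleton.elim _ _
  obtain ⟨N, M, F, hF, ⟨e⟩⟩ := h
  haveI : Algebra.QuasiFinite A (Synt.RelGCIRing A N M F) :=
    Algebra.QuasiFinite.of_surjective_algHom e.symm.toAlgHom e.symm.surjective
  haveI : Nontrivial (Synt.RelGCIRing A N M F) := e.toEquiv.nontrivial
  obtain ⟨P, hP⟩ := Ideal.exists_maximal (Synt.RelGCIRing A N M F)
  let p : PrimeSpectrum A := ⟨P.under A, inferInstance⟩
  haveI : P.LiesOver p.asIdeal := ⟨rfl⟩
  obtain ⟨Q, -⟩ := FlatLoc6.exists_fiber_prime p.asIdeal P rfl
  haveI hne : Nontrivial (p.asIdeal.Fiber (Synt.RelGCIRing A N M F)) := PrimeSpectrum.nonempty_iff_nontrivial.1 ⟨Q⟩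
  haveI : Module.Finite p.asIdeal.ResidueField (p.asIdeal.Fiber (Synt.RelGCIRing A N M F)) :=
    Algebra.QuasiFinite.finite_fiber p.asIdeal
  haveI : IsArtinianRing (p.asIdeal.Fiber (Synt.RelGCIRing A N M F)) :=
    isArtinian_of_tower p.asIdeal.ResidueField inferInstance
  obtain ⟨hMN, hdim⟩ := hF p hne
  rw [ringKrullDim_eq_zero_of_artinian (p.asIdeal.Fiber (Synt.RelGCIRing A N M F))] at hdim
  have h0 : 0 = N - M := by exact_mod_cast hdim
  obtain rfl : M = N := by omega
  letI : Algebra (Synt.RelGCIRing A M M F) T := e.toAlgHom.toRingHom.toAlgebra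
  haveI : IsScalarTower A (Synt.RelGCIRing A M M F) T := IsScalarTower.of_algebraMap_eq (R := A) (S := Synt.RelGCIRing A M M F) (A := T) fun a => (e.commutes a).symm
  haveI : IsLocalization.Away (1 : Synt.RelGCIRing A M M F) T :=
    IsLocalization.away_of_isUnit_of_bijective T isUnit_one e.bijective
  rw [noetherDifferent_map_away (S := Synt.RelGCIRing A M M F) 1, fittingIdeal_kaehler_map_away (S := Synt.RelGCIRing A M M F) 1,
    noetherDifferent_eq_span F, fittingIdeal_kaehler_quotient F]

theorem differentSet_eq_fitting (B : Type u) [CommRing B] [Algebra A B] [IsNoetherianRing A]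
    [Module.Finite A B] [Module.Free A B] (h : Synt.IsSyntomic A B) :
    Disc.differentSet A B = (Fitt.ideal B (KaehlerDifferential A B) 0 : Set B) := by
  haveI := h.1
  haveI := h.2.1
  have hlci : LCI.IsLCI A B := by
    obtain ⟨n, φ, hφ, -⟩ := (inferInstance : Algebra.FinitePresentation A B).out
    exact ⟨inferInstance, n, φ, hφ, Synt29.isKoszulRegularIdeal_ker_of_isSyntomic h φ hφ⟩
  haveI : Module.Invertible B (Disc.Omega A B) := QFD.gorenstein_fibres_iff.mp fun p _ =>
    LC.gorensteinRing_of_ringEquiv (Algebra.TensorProduct.comm A B p.ResidueField).toRingEquiv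
      (LC.gorensteinRing_fibre_of_isLCI A B hlci p)
  rw [S2221.result]
  refine congrArg SetLike.coe (Ideal.eq_of_localization_maximal fun P hP => ?_)
  haveI := hP
  let q : PrimeSpectrum B := ⟨P, inferInstance⟩
  obtain ⟨g, hg, hstd⟩ := Synt29.exists_isStd_away q _ rfl (h.2.2 (PrimeSpectrum.comap (algebraMap A B) q))
  let Bg := Localization.Away g
  have hle : Submonoid.powers g ≤ P.primeCompl := Submonoid.powers_le.mpr hg
  letI : Algebra Bg (Localization.AtPrime P) :=
    IsLocalization.localizationAlgebraOfSubmonoidLe Bg (Localization.AtPrime P) (Submonoid.powers g) P.primeCompl hle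
  haveI : IsScalarTower B Bg (Localization.AtPrime P) :=
    IsLocalization.localization_isScalarTower_of_submonoid_le Bg (Localization.AtPrime P) (Submonoid.powers g) P.primeCompl hle
  haveI : Algebra.QuasiFinite A Bg := by
    haveI : Algebra.QuasiFinite B Bg := Algebra.QuasiFinite.of_isLocalization (Submonoid.powers g)
    exact Algebra.QuasiFinite.trans A B Bg
  have key := noetherDifferent_eq_fitting_of_isStd hstd
  rw [noetherDifferent_map_away (S := B) g, fittingIdeal_kaehler_map_away (S := B) g] at key
  rw [IsScalarTower.algebraMap_eq B Bg (Localization.AtPrime P), ← Ideal.map_map, ← Ideal.map_map, key]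

end Groth.Agent.DiscFam
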